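import Cfsg.Agent.Lib.ThreeTrans.CosetIndex.Table

set_option autoImplicit false

/-!
Checked enumerations for groups presented by Coxeter graphs with further relators; orbits of the subgroup
(owner: helper28).
-/

namespace CfsgLib.ThreeTrans.CosetIndex

open Cfsg

section Presented

variable {α : Type} [DecidableEq α] (edges : List (α × ℕ × α)) (extra : List (FreeGroup α)) (gens : List α)

/-- The letters of a word, signs forgotten. -/
def letters (r : FreeGroup α) : List ℕ := r.toWord.map fun p => gens.idxOf p.1

/-- The relators as words. -/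
def relWords : List (List ℕ) :=
  ((Spor.coxNodes edges).flatMap fun x => (Spor.coxNodes edges).map fun y =>
    letters gens ((FreeGroup.of x * FreeGroup.of y) ^ Spor.coxLabel edges x y)) ++ extra.map (letters gens)

/-- A word is a rotation of a listed one. -/
def rotMem (L : List (List ℕ)) (w : List ℕ) : Bool :=
  L.any fun u => (List.range u.length).any fun i => (u.drop i ++ u.take i) == w

theorem prod_rotMem {M : Type*} [Group M] {L : List (List ℕ)} {w : List ℕ} (b : ℕ → M) (h : rotMem L w = true)
    (hL : ∀ u ∈ L, (u.map b).prod = 1) : (w.map b).prod = 1 := by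
  simp only [rotMem, List.any_eq_true, beq_iff_eq] at h
  obtain ⟨u, hu, i, -, rfl⟩ := h
  rw [List.map_append, List.prod_append, mul_eq_one_comm, ← List.prod_append, ← List.map_append,
    List.take_append_drop]
  exact hL u hu

/-- The letters as group elements. -/
def gen (x : ℕ) : Spor.CoxPresented α edges extra := (gens[x]?).elim 1 PresentedGroup.of

theorem hom_eq_prod {M : Type*} [Group M] (f : FreeGroup α →* M) (b : ℕ → M)
    (hf : ∀ y, f (FreeGroup.of y) = b (gens.idxOf y)) (hb : ∀ x, b x * b x = 1) (r : FreeGroup α) :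
    f r = ((letters gens r).map b).prod := by
  conv_lhs => rw [← FreeGroup.mk_toWord (x := r)]
  rw [letters, List.map_map]
  induction r.toWord with
  | nil => simp [← FreeGroup.one_eq_mk]
  | cons p L ih =>
    rw [show FreeGroup.mk (p :: L) = FreeGroup.mk [p] * FreeGroup.mk L from rfl, map_mul, ih, List.map_cons,
      List.prod_cons]
    congr 1
    obtain ⟨y, e⟩ := p
    cases e with
    | true => exact hf y
    | false =>
      rw [show FreeGroup.mk [(y, false)] = (FreeGroup.of y)⁻¹ from rfl, map_inv, hf]
      exact inv_eq_of_mul_eq_one_right (hb _)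

/-- The side conditions tying the data to the presentation and the subgroup. -/
structure Fits (D : Data) (L : List (FreeGroup α)) : Prop where
  nodes : ∀ y : α, y ∈ Spor.coxNodes edges
  mem : ∀ y : α, y ∈ gens
  nodup : gens.Nodup
  ng : D.ng = gens.length
  rels : ((relWords edges extra gens).all (fun w => rotMem D.rels w) &&
    D.rels.all (fun w => (relWords edges extra gens).contains w)) = true
  subs : D.subs = L.map (letters gens)

variable {edges extra gens} {D : Data} {L : List (FreeGroup α)} (hD : D.Valid) (hF : Fits edges extra gens D L)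
include hF

theorem gen_idxOf (y : α) : gen edges extra gens (gens.idxOf y) = PresentedGroup.of y := by
  rw [gen, List.getElem?_eq_getElem (List.idxOf_lt_length_iff.2 (hF.mem y)), List.getElem_idxOf]
  rfl

theorem gen_sq (x : ℕ) : gen edges extra gens x * gen edges extra gens x = 1 := by
  unfold gen
  cases gens[x]? with
  | none => simp
  | some y =>
    have h := PresentedGroup.one_of_mem (rels := Spor.coxRelators edges ∪ {r | r ∈ extra})
      (show (FreeGroup.of y * FreeGroup.of y) ^ Spor.coxLabel edges y y ∈ _ from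
        Or.inl ⟨y, hF.nodes y, y, hF.nodes y, rfl⟩)
    rw [Spor.coxLabel, if_pos rfl, pow_one, map_mul] at h
    exact h

theorem mk_eq_prod (r : FreeGroup α) :
    PresentedGroup.mk (Spor.coxRelators edges ∪ {r | r ∈ extra}) r =
      ((letters gens r).map (gen edges extra gens)).prod :=
  hom_eq_prod gens _ _ (fun y => (gen_idxOf hF y).symm) (gen_sq hF) r

theorem gen_big {x : ℕ} (hx : D.ng ≤ x) : gen edges extra gens x = 1 := by
  rw [gen, List.getElem?_eq_none (hF.ng ▸ hx)]
  rfl

theorem gen_generates : Subgroup.closure (Set.range (gen edges extra gens)) = ⊤ := by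
  rw [eq_top_iff, ← PresentedGroup.closure_range_of, Subgroup.closure_le]
  rintro _ ⟨y, rfl⟩
  exact Subgroup.subset_closure ⟨_, gen_idxOf hF y⟩

theorem gen_rels : ∀ w ∈ D.rels, (w.map (gen edges extra gens)).prod = 1 := by
  intro w hw
  have h := Bool.and_eq_true_iff.1 hF.rels
  have hmem := List.all_eq_true.1 h.2 w hw
  rw [List.contains_iff_mem, relWords, List.mem_append] at hmem
  obtain ⟨r, hr, rfl⟩ : ∃ r ∈ Spor.coxRelators edges ∪ {r | r ∈ extra}, letters gens r = w := by
    rcases hmem with hmem | hmem
    · obtain ⟨x, hx, hmem⟩ := List.mem_flatMap.1 hmem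
      obtain ⟨y, hy, rfl⟩ := List.mem_map.1 hmem
      exact ⟨_, Or.inl ⟨x, hx, y, hy, rfl⟩, rfl⟩
    · obtain ⟨r, hr, rfl⟩ := List.mem_map.1 hmem
      exact ⟨r, Or.inr hr, rfl⟩
  rw [← mk_eq_prod hF]
  exact PresentedGroup.one_of_mem hr

theorem map_closure_eq :
    (Subgroup.closure {r | r ∈ L}).map (PresentedGroup.mk (Spor.coxRelators edges ∪ {r | r ∈ extra})) =
      Subgroup.closure {g | ∃ w ∈ D.subs, g = (w.map (gen edges extra gens)).prod} := by
  rw [MonoidHom.map_closure]
  congr 1
  ext g
  simp only [Set.mem_image, Set.mem_ofPred_eq, hF.subs, List.mem_map]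
  constructor
  · rintro ⟨r, hr, rfl⟩
    exact ⟨_, ⟨r, hr, rfl⟩, mk_eq_prod hF r⟩
  · rintro ⟨_, ⟨r, hr, rfl⟩, rfl⟩
    exact ⟨r, hr, mk_eq_prod hF r⟩

include hD

theorem perm_big {x : ℕ} (hx : D.ng ≤ x) : Data.perm hD x = 1 :=
  Equiv.ext fun c => Fin.ext (by
    show cond (Nat.blt x D.ng) _ (c : ℕ) = c
    have : Nat.blt x D.ng = false := Bool.eq_false_iff.2 (by simpa using hx)
    rw [this]; rfl)

/-- The permutation action of the presented group on the rows of the table. -/
noncomputable def toPerm : Spor.CoxPresented α edges extra →* Equiv.Perm (Fin D.n) :=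
  PresentedGroup.toGroup (f := fun y => Data.perm hD (gens.idxOf y)) (by
    intro r hr
    rw [hom_eq_prod gens _ (Data.perm hD) (fun y => FreeGroup.lift_apply_of) (Data.perm_sq hD)]
    refine prod_rotMem _ ?_ fun u hu => Data.perm_rel hD hu
    have h := Bool.and_eq_true_iff.1 hF.rels
    refine List.all_eq_true.1 h.1 _ ?_
    rw [relWords, List.mem_append]
    rcases hr with ⟨x, hx, y, hy, rfl⟩ | hr
    · exact Or.inl (List.mem_flatMap.2 ⟨x, hx, List.mem_map.2 ⟨y, hy, rfl⟩⟩)
    · exact Or.inr (List.mem_map.2 ⟨r, hr, rfl⟩))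

theorem toPerm_gen (x : ℕ) : toPerm hD hF (gen edges extra gens x) = Data.perm hD x := by
  by_cases hx : x < gens.length
  · rw [gen, List.getElem?_eq_getElem hx, Option.elim_some, toPerm, PresentedGroup.toGroup.of,
      hF.nodup.idxOf_getElem _ hx]
  · rw [gen_big hF (by rw [hF.ng]; omega), map_one, perm_big hD hF (by rw [hF.ng]; omega)]

theorem presented_index :
    ((Subgroup.closure {r | r ∈ L}).map
      (PresentedGroup.mk (Spor.coxRelators edges ∪ {r | r ∈ extra}))).index = D.n :=
  Data.index_eq hD (gen_sq hF) (fun _ hx => gen_big hF hx) (gen_generates hF) (map_closure_eq hF)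
    (gen_rels hF) (toPerm hD hF) (toPerm_gen hD hF)

/-- A listed set of rows that is closed under the subgroup generators and reached from `c₀`; the set is
given by the bit mask `m`. -/
noncomputable def orbOK (D : Data) (c₀ : ℕ) (m : ℕ) (reach : List (ℕ × ℕ)) (size : ℕ) : Bool :=
  let got := List.rec (motive := fun _ => ℕ → ℕ) (fun acc => acc)
    (fun e _ ih acc => ih (cond (acc.testBit e.1)
      (Nat.lor acc (Nat.shiftLeft 1 (D.trace e.1 (D.subs.getD e.2 [])))) acc)) reach (Nat.shiftLeft 1 c₀)
  m.testBit c₀ && (Nat.beq got m &&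
    (Nat.beq ((List.range D.n).countP m.testBit) size &&
    ((List.range D.n).all (fun c => !m.testBit c || (D.subs.all fun w => m.testBit (D.trace c w))))))

theorem trace_smul (c : Fin D.n) (w : List ℕ) :
    D.trace c w = ((toPerm hD hF (((w.map (gen edges extra gens)).prod)⁻¹) c : Fin D.n) : ℕ) := by
  rw [Data.trace_eq hD, prod_reverse_eq_inv _ (Data.perm_sq hD), map_inv, map_list_prod, List.map_map,
    show (⇑(toPerm hD hF) ∘ gen edges extra gens) = Data.perm hD from funext (toPerm_gen hD hF)]

theorem exists_presented_equiv :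
    ∃ e : Spor.CoxPresented α edges extra ⧸ (Subgroup.closure {r | r ∈ L}).map
        (PresentedGroup.mk (Spor.coxRelators edges ∪ {r | r ∈ extra})) ≃ Fin D.n,
      ∀ (g : Spor.CoxPresented α edges extra) q, e (g • q) = toPerm hD hF g (e q) := by
  obtain ⟨e, -, he⟩ := Data.exists_equiv hD (gen_sq hF) (fun _ hx => gen_big hF hx) (gen_generates hF)
    (map_closure_eq hF) (gen_rels hF) (toPerm hD hF) (toPerm_gen hD hF)
  exact ⟨e, he⟩

/-- The orbit of a row: exactly the listed rows. -/
theorem presented_orbit {c₀ : Fin D.n} {m : ℕ} {reach : List (ℕ × ℕ)} {size : ℕ}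
    (h : orbOK D c₀ m reach size = true)
    (e : Spor.CoxPresented α edges extra ⧸ (Subgroup.closure {r | r ∈ L}).map
        (PresentedGroup.mk (Spor.coxRelators edges ∪ {r | r ∈ extra})) ≃ Fin D.n)
    (he : ∀ (g : Spor.CoxPresented α edges extra) q, e (g • q) = toPerm hD hF g (e q)) :
    MulAction.orbit ↥((Subgroup.closure {r | r ∈ L}).map
        (PresentedGroup.mk (Spor.coxRelators edges ∪ {r | r ∈ extra}))) (e.symm c₀) = {q | m.testBit (e q) = true} ∧
      (MulAction.orbit ↥((Subgroup.closure {r | r ∈ L}).map
        (PresentedGroup.mk (Spor.coxRelators edges ∪ {r | r ∈ extra}))) (e.symm c₀)).ncard = size := by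
  simp only [orbOK, Bool.and_eq_true, Nat.beq_eq] at h
  obtain ⟨h0, hpts, hsize, hcl⟩ := h
  set S : Set (Fin D.n) := {c | m.testBit c = true} with hS
  have hclosed : ∀ g ∈ ((Subgroup.closure {r | r ∈ L}).map (PresentedGroup.mk (Spor.coxRelators edges ∪ {r | r ∈ extra}))), toPerm hD hF g '' S = S := by
    rw [map_closure_eq hF]
    intro g hg
    induction hg using Subgroup.closure_induction with
    | mem g hg =>
      obtain ⟨w, hw, rfl⟩ := hg
      have hinv : toPerm hD hF (((w.map (gen edges extra gens)).prod)⁻¹) '' S = S := by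
        refine Set.eq_of_subset_of_ncard_le ?_ (by rw [Set.ncard_image_of_injective _ (Equiv.injective _)])
        rintro _ ⟨c, hc, rfl⟩
        have hc' := List.all_eq_true.1 hcl (c : ℕ) (List.mem_range.2 c.2)
        simp only [show m.testBit c = true from hc, Bool.not_true, Bool.false_or, List.all_eq_true] at hc'
        show m.testBit _ = true
        rw [← trace_smul hD hF]
        exact hc' w hw
      calc toPerm hD hF (w.map (gen edges extra gens)).prod '' S
          = toPerm hD hF (w.map (gen edges extra gens)).prod ''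
              (toPerm hD hF (((w.map (gen edges extra gens)).prod)⁻¹) '' S) := by rw [hinv]
        _ = S := by rw [Set.image_image]; simp
    | one => simp
    | mul g g' _ _ i1 i2 => rw [map_mul, Equiv.Perm.coe_mul, Set.image_comp, i2, i1]
    | inv g _ i1 =>
      conv_lhs => rw [← i1]
      rw [Set.image_image]
      simp
  have horb : MulAction.orbit ↥((Subgroup.closure {r | r ∈ L}).map (PresentedGroup.mk (Spor.coxRelators edges ∪ {r | r ∈ extra}))) (e.symm c₀) = {q | m.testBit (e q) = true} := by
    refine Set.Subset.antisymm ?_ ?_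
    · rintro _ ⟨⟨g, hg⟩, rfl⟩
      show m.testBit (e (g • e.symm c₀) : Fin D.n) = true
      rw [he, e.apply_symm_apply]
      have : toPerm hD hF g c₀ ∈ toPerm hD hF g '' S := Set.mem_image_of_mem _ h0
      rw [hclosed g hg] at this
      exact this
    · have key : ∀ (rs : List (ℕ × ℕ)) (acc : ℕ),
          (∀ p, acc.testBit p = true → ∃ g ∈ ((Subgroup.closure {r | r ∈ L}).map (PresentedGroup.mk (Spor.coxRelators edges ∪ {r | r ∈ extra}))), ((toPerm hD hF g c₀ : Fin D.n) : ℕ) = p) →
          ∀ p, (List.rec (motive := fun _ => ℕ → ℕ) (fun acc => acc)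
            (fun e _ ih acc => ih (cond (acc.testBit e.1)
              (Nat.lor acc (Nat.shiftLeft 1 (D.trace e.1 (D.subs.getD e.2 [])))) acc)) rs acc).testBit p = true →
            ∃ g ∈ ((Subgroup.closure {r | r ∈ L}).map (PresentedGroup.mk (Spor.coxRelators edges ∪ {r | r ∈ extra}))), ((toPerm hD hF g c₀ : Fin D.n) : ℕ) = p := by
        intro rs
        induction rs with
        | nil => exact fun acc h => h
        | cons r rs ih =>
          intro acc hacc
          refine ih _ fun p hp => ?_
          cases hb : acc.testBit r.1 with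
          | false => rw [hb] at hp; exact hacc p hp
          | true =>
            rw [hb] at hp
            change (acc ||| 1 <<< D.trace r.1 (D.subs.getD r.2 []) : ℕ).testBit p = true at hp
            rw [Nat.testBit_or, Nat.one_shiftLeft, Nat.testBit_two_pow, Bool.or_eq_true, decide_eq_true_eq] at hp
            rcases hp with hp | hp
            · exact hacc p hp
            obtain ⟨g, hg, hgp⟩ := hacc r.1 hb
            obtain ⟨u, hu, huv⟩ : ∃ u ∈ ((Subgroup.closure {r | r ∈ L}).map (PresentedGroup.mk (Spor.coxRelators edges ∪ {r | r ∈ extra}))), u = ((((D.subs.getD r.2 []).map (gen edges extra gens)).prod)⁻¹) := by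
              refine ⟨_, inv_mem ?_, rfl⟩
              by_cases hj : r.2 < D.subs.length
              · rw [List.getD_eq_getElem _ _ hj, map_closure_eq hF]
                exact Subgroup.subset_closure ⟨_, List.getElem_mem hj, rfl⟩
              · rw [List.getD_eq_default _ _ (by omega)]
                simp
            refine ⟨u * g, mul_mem hu hg, ?_⟩
            rw [map_mul, Equiv.Perm.mul_apply, ← hp, ← hgp, trace_smul hD hF, huv]
      intro q hq
      obtain ⟨g, hg, hgp⟩ := key reach (Nat.shiftLeft 1 c₀) (by
        intro p hp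
        change (1 <<< (c₀ : ℕ) : ℕ).testBit p = true at hp
        rw [Nat.one_shiftLeft, Nat.testBit_two_pow, decide_eq_true_eq] at hp
        exact ⟨1, one_mem _, by rw [map_one, ← hp]; rfl⟩) (e q : ℕ) (by rw [hpts]; exact hq)
      refine ⟨⟨g, hg⟩, e.injective ?_⟩
      show e (g • e.symm c₀) = e q
      rw [he, e.apply_symm_apply]
      exact Fin.ext hgp
  refine ⟨horb, ?_⟩
  rw [horb, show {q | m.testBit (e q) = true} = e ⁻¹' S from rfl,
    Set.ncard_preimage_of_injective_subset_range e.injective (by simp)]
  rw [hS, ← hsize, Set.ncard_eq_toFinset_card']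
  rw [show {c : Fin D.n | m.testBit c = true}.toFinset = Finset.univ.filter fun c : Fin D.n => m.testBit c = true by ext; simp]
  have e1 : (Finset.univ.filter fun c : Fin D.n => m.testBit c = true).map Fin.valEmbedding =
      (Finset.range D.n).filter fun c => m.testBit c = true := by
    ext c
    simp only [Finset.mem_map, Finset.mem_filter, Finset.mem_univ, true_and, Fin.valEmbedding_apply, Finset.mem_range]
    exact ⟨fun ⟨d, hd, e⟩ => e ▸ ⟨d.2, hd⟩, fun ⟨hc, hm⟩ => ⟨⟨c, hc⟩, hm, rfl⟩⟩
  rw [← Finset.card_map Fin.valEmbedding, e1, List.countP_eq_length_filter,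
    ← List.toFinset_card_of_nodup (List.nodup_range.filter _)]
  congr 1
  ext c
  simp

end Presented

end CfsgLib.ThreeTrans.CosetIndex
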