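import Mathlib

set_option autoImplicit false

/-!
Certificates for coset enumerations of groups generated by involutions (owner: helper28).

Nodes are cosets reached from the base by defining steps; a fact `(s, d, x)` says that the generator `x`
maps node `s` to node `d`; the letter `eqLetter` stands for the identity.
-/

namespace CfsgLib.ThreeTrans.CosetIndex

/-- Binary trees of packed numbers. -/
inductive Tr
  | leaf (n : ℕ)
  | node (l r : Tr)

/-- The leaf with a given index, read from the low bit. -/
noncomputable def Tr.get (t : Tr) : ℕ → ℕ :=
  Tr.rec (motive := fun _ => ℕ → ℕ) (fun n _ => n)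
    (fun _ _ L R i => cond (Nat.beq (Nat.land i 1) 0) (L (Nat.shiftRight i 1)) (R (Nat.shiftRight i 1))) t

/-- A 20-bit field. -/
noncomputable def fld (p k : ℕ) : ℕ := Nat.land (Nat.shiftRight p (Nat.mul 20 k)) 1048575

/-- The letter of equality facts. -/
def eqLetter : ℕ := 15

/-- The source of a packed fact. -/
noncomputable def fsrc (f : ℕ) : ℕ := Nat.land (Nat.shiftRight f 24) 1048575

/-- The target of a packed fact. -/
noncomputable def fdst (f : ℕ) : ℕ := Nat.land (Nat.shiftRight f 4) 1048575

/-- The letter of a packed fact. -/
noncomputable def flet (f : ℕ) : ℕ := Nat.land f 15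

/-- The fact with a given number; 512 are packed in a leaf, 44 bits each. -/
noncomputable def fact (t : Tr) (i : ℕ) : ℕ :=
  Nat.land (Nat.shiftRight (t.get (Nat.shiftRight i 9)) (Nat.mul 44 (Nat.land i 511))) 17592186044415

/-- An entry of an array of 16-bit fields held in one number. -/
noncomputable def at16 (p k : ℕ) : ℕ := Nat.land (Nat.shiftRight p (Nat.mul 16 k)) 65535

/-- Following one fact from a node with a word still to read. -/
noncomputable def step1 (f : ℕ) (s : ℕ × List ℕ) : Option (ℕ × List ℕ) :=
  cond (Nat.beq (fsrc f) s.1 || Nat.beq (fdst f) s.1)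
    (cond (Nat.beq (flet f) eqLetter) (some (cond (Nat.beq (fsrc f) s.1) (fdst f) (fsrc f), s.2))
      (List.rec (motive := fun _ => Option (ℕ × List ℕ)) none
        (fun y ys _ => cond (Nat.beq y (flet f))
          (some (cond (Nat.beq (fsrc f) s.1) (fdst f) (fsrc f), ys)) none) s.2))
    none

/-- Following `k` items from position `off` of a packed record; items must precede `lim`. -/
noncomputable def walkItems (t : Tr) (lim p off : ℕ) (k : ℕ) (s : ℕ × List ℕ) : Option (ℕ × List ℕ) :=
  Nat.rec (motive := fun _ => Option (ℕ × List ℕ)) (some s)
    (fun j ih => Option.rec none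
      (fun s' => cond (Nat.blt (fld p (off + j)) lim) (step1 (fact t (fld p (off + j))) s') none) ih) k

/-- A derived fact: relator, rotation, base, the two chains. -/
noncomputable def stepOK (t : Tr) (rels subs : List (List ℕ)) (i p : ℕ) : Bool :=
  let r := fld p 0
  let sh := fld p 1
  let base := fld p 2
  let nf := fld p 3
  let nb := fld p 4
  let w := cond (Nat.blt r rels.length) ((rels.getD r []).drop sh ++ (rels.getD r []).take sh)
    (subs.getD (r - rels.length) [])
  (Nat.blt r rels.length || (Nat.beq base 0 && Nat.blt (r - rels.length) subs.length)) &&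
  Option.rec false (fun f => Option.rec false (fun b =>
      match b.2 with
      | [] => Nat.beq (flet (fact t i)) eqLetter &&
          (Nat.beq (fsrc (fact t i)) f.1 && Nat.beq (fdst (fact t i)) b.1)
      | [x] => Nat.beq (flet (fact t i)) x &&
          (Nat.beq (fsrc (fact t i)) f.1 && Nat.beq (fdst (fact t i)) b.1)
      | _ => false)
      (walkItems t i p (5 + nf) nb (base, f.2.reverse)))
    (walkItems t i p 5 nf (base, w))

/-- Checking consecutive derived facts. -/
noncomputable def stepsOK (t : Tr) (rels subs : List (List ℕ)) (L : List ℕ) (start : ℕ) : Bool :=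
  List.rec (motive := fun _ => ℕ → Bool) (fun _ => true) (fun p _ ih i => stepOK t rels subs i p && ih (i + 1)) L start

/-- All numbers in an interval. -/
noncomputable def forallFrom (f : ℕ → Bool) (start len : ℕ) : Bool :=
  Nat.rec true (fun k ih => f (start + k) && ih) len

theorem forallFrom_elim {f : ℕ → Bool} {start len : ℕ} (h : forallFrom f start len = true) {i : ℕ}
    (h1 : start ≤ i) (h2 : i < start + len) : f i = true := by
  induction len with
  | zero => omega
  | succ k ih =>
    have h' : (f (start + k) && forallFrom f start k) = true := h
    rw [Bool.and_eq_true] at h'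
    rcases Nat.lt_or_ge i (start + k) with h3 | h3
    · exact ih h'.2 h3
    · rw [show i = start + k by omega]; exact h'.1

theorem stepsOK_elim {t : Tr} {rels subs : List (List ℕ)} : ∀ {L : List ℕ} {start : ℕ},
    stepsOK t rels subs L start = true → ∀ i, start ≤ i → i < start + L.length →
      ∃ p, stepOK t rels subs i p = true
  | [], start, _, i, h1, h2 => absurd h2 (by simp only [List.length_nil]; omega)
  | p :: L, start, h, i, h1, h2 => by
    have h' : (stepOK t rels subs start p && stepsOK t rels subs L (start + 1)) = true := h
    rw [Bool.and_eq_true] at h'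
    rcases eq_or_ne i start with rfl | hne
    · exact ⟨p, h'.1⟩
    · simp only [List.length_cons] at h2
      exact stepsOK_elim h'.2 i (by omega) (by omega)

section Semantics

variable {G X : Type*} [Group G] [MulAction G X] (a : ℕ → G)

/-- The action of a word, letter by letter. -/
def actW : List ℕ → X → X
  | [], q => q
  | x :: w, q => actW w (a x • q)

theorem actW_append (u w : List ℕ) (q : X) : actW a (u ++ w) q = actW a w (actW a u q) := by
  induction u generalizing q with
  | nil => rfl
  | cons x u ih => exact ih _

theorem actW_eq (w : List ℕ) (q : X) : actW a w q = (w.reverse.map a).prod • q := by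
  induction w generalizing q with
  | nil => simp [actW]
  | cons x w ih => simp [actW, ih, mul_smul]

variable (hinv : ∀ x, a x * a x = 1)
include hinv

theorem prod_reverse_eq_inv (w : List ℕ) : (w.reverse.map a).prod = ((w.map a).prod)⁻¹ := by
  induction w with
  | nil => simp
  | cons x w ih =>
    rw [List.reverse_cons, List.map_append, List.prod_append, ih]
    simp [inv_eq_of_mul_eq_one_right (hinv x)]

theorem actW_rev (w : List ℕ) (q : X) : actW a w.reverse (actW a w q) = q := by
  rw [← actW_append, actW_eq, List.reverse_append, List.reverse_reverse, List.map_append, List.prod_append,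
    prod_reverse_eq_inv a hinv, mul_inv_cancel, one_smul]

/-- A word that acts trivially still does so after rotation. -/
theorem actW_rotate {w : List ℕ} (h : ∀ q : X, actW a w q = q) (k : ℕ) (q : X) :
    actW a (w.drop k ++ w.take k) q = q := by
  set u := w.take k
  set v := w.drop k
  have h' : ∀ q : X, actW a v (actW a u q) = q := fun q => by
    rw [← actW_append, List.take_append_drop]; exact h q
  rw [actW_append]
  have e : actW a u.reverse.reverse (actW a u.reverse q) = q := actW_rev a hinv _ q
  rw [List.reverse_reverse] at e
  have h2 := h' (actW a u.reverse q)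
  rw [e] at h2
  rw [h2, e]

/-- The meaning of a fact. -/
def Good (v : ℕ → X) (f : ℕ) : Prop := a (flet f) • v (fsrc f) = v (fdst f)

theorem step1_sound (he : a eqLetter = 1) {v : ℕ → X} {f : ℕ} (hf : Good a v f) {s s' : ℕ × List ℕ}
    (h : step1 f s = some s') :
    ∃ u, s.2 = u ++ s'.2 ∧ actW a u (v s.1) = v s'.1 := by
  obtain ⟨c, w⟩ := s
  have hback : a (flet f) • v (fdst f) = v (fsrc f) := by
    rw [← hf, smul_smul, hinv, one_smul]
  have hmove : (Nat.beq (fsrc f) c || Nat.beq (fdst f) c) = true →
      a (flet f) • v c = v (cond (Nat.beq (fsrc f) c) (fdst f) (fsrc f)) := by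
    intro hor
    cases hb : Nat.beq (fsrc f) c with
    | true => rw [← Nat.eq_of_beq_eq_true hb]; exact hf
    | false =>
      rw [hb, Bool.false_or] at hor
      rw [← Nat.eq_of_beq_eq_true hor]; exact hback
  unfold step1 at h
  cases hor : (Nat.beq (fsrc f) c || Nat.beq (fdst f) c) with
  | false => simp [hor] at h
  | true =>
    simp only [hor, cond_true] at h
    have hm := hmove hor
    cases he' : Nat.beq (flet f) eqLetter with
    | true =>
      simp only [he', cond_true, Option.some.injEq] at h
      subst h
      refine ⟨[], rfl, ?_⟩
      rw [Nat.eq_of_beq_eq_true he', he, one_smul] at hm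
      exact hm
    | false =>
      simp only [he', cond_false] at h
      cases w with
      | nil => simp at h
      | cons y ys =>
        cases hy : Nat.beq y (flet f) with
        | false => simp [hy] at h
        | true =>
          simp only [hy, cond_true, Option.some.injEq] at h
          subst h
          exact ⟨[y], rfl, by rw [Nat.eq_of_beq_eq_true hy]; exact hm⟩

theorem walkItems_sound (he : a eqLetter = 1) {v : ℕ → X} {t : Tr} {lim p off : ℕ}
    (hf : ∀ i < lim, Good a v (fact t i)) : ∀ {k : ℕ} {s s' : ℕ × List ℕ},
      walkItems t lim p off k s = some s' → ∃ u, s.2 = u ++ s'.2 ∧ actW a u (v s.1) = v s'.1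
  | 0, s, s', h => by
    have : s = s' := Option.some.inj h
    subst this
    exact ⟨[], rfl, rfl⟩
  | k + 1, s, s', h => by
    have h' : Option.rec none (fun s'' => cond (Nat.blt (fld p (off + k)) lim)
        (step1 (fact t (fld p (off + k))) s'') none) (walkItems t lim p off k s) = some s' := h
    cases hw : walkItems t lim p off k s with
    | none => rw [hw] at h'; simp at h'
    | some m =>
      rw [hw] at h'
      cases hb : Nat.blt (fld p (off + k)) lim with
      | false => simp [hb] at h'
      | true =>
        simp only [hb, cond_true] at h'
        obtain ⟨u, hu, hu'⟩ := walkItems_sound he hf hw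
        obtain ⟨u', hu1, hu2⟩ := step1_sound a hinv he (hf _ (by simpa using hb)) h'
        refine ⟨u ++ u', by rw [hu, hu1, List.append_assoc], ?_⟩
        rw [actW_append, hu', hu2]

theorem stepOK_sound (he : a eqLetter = 1) {v : ℕ → X} {t : Tr} {rels subs : List (List ℕ)} {i p : ℕ}
    (hrel : ∀ w ∈ rels, ∀ q : X, actW a w q = q) (hsub : ∀ w ∈ subs, actW a w (v 0) = v 0)
    (hf : ∀ j < i, Good a v (fact t j)) (h : stepOK t rels subs i p = true) : Good a v (fact t i) := by
  set r := fld p 0 with hr
  set base := fld p 2 with hbase
  set w := cond (Nat.blt r rels.length) ((rels.getD r []).drop (fld p 1) ++ (rels.getD r []).take (fld p 1))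
    (subs.getD (r - rels.length) []) with hw
  simp only [stepOK, ← hr, ← hbase, ← hw, Bool.and_eq_true] at h
  obtain ⟨hcase, h⟩ := h
  have hclose : actW a w (v base) = v base := by
    cases hb : Nat.blt r rels.length with
    | true =>
      rw [hw, hb, cond_true]
      refine actW_rotate a hinv (hrel _ ?_) _ _
      have : r < rels.length := by simpa using hb
      rw [List.getD_eq_getElem _ _ this]
      exact List.getElem_mem this
    | false =>
      rw [hb, Bool.false_or, Bool.and_eq_true] at hcase
      rw [hw, hb, cond_false, Nat.eq_of_beq_eq_true hcase.1]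
      refine hsub _ ?_
      have : r - rels.length < subs.length := by simpa using hcase.2
      rw [List.getD_eq_getElem _ _ this]
      exact List.getElem_mem this
  cases hF : walkItems t i p 5 (fld p 3) (base, w) with
  | none => rw [hF] at h; simp at h
  | some f =>
    rw [hF] at h
    dsimp only at h
    cases hB : walkItems t i p (5 + fld p 3) (fld p 4) (base, f.2.reverse) with
    | none => rw [hB] at h; simp at h
    | some b =>
      rw [hB] at h
      dsimp only at h
      obtain ⟨u, hu, hu'⟩ := walkItems_sound a hinv he hf hF
      obtain ⟨s, hs, hs'⟩ := walkItems_sound a hinv he hf hB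
      dsimp only at hu hu' hs hs'
      have hf2 : f.2 = b.2.reverse ++ s.reverse := by
        rw [← List.reverse_append, ← hs, List.reverse_reverse]
      have hsb : actW a s.reverse (v b.1) = v base := by rw [← hs', actW_rev a hinv]
      have hkey : actW a b.2.reverse (v f.1) = v b.1 := by
        have h1 : actW a s.reverse (actW a b.2.reverse (v f.1)) = v base := by
          rw [← actW_append, ← hf2, ← hu', ← actW_append, ← hu]; exact hclose
        rw [← hsb] at h1
        have h2 := congrArg (actW a s.reverse.reverse) h1
        rwa [actW_rev a hinv, actW_rev a hinv] at h2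
      unfold Good
      match hb2 : b.2 with
      | [] =>
        simp only [hb2, Bool.and_eq_true, Nat.beq_eq] at h
        rw [h.1, h.2.1, h.2.2, he, one_smul]
        rw [hb2] at hkey
        exact hkey
      | [x] =>
        simp only [hb2, Bool.and_eq_true, Nat.beq_eq] at h
        rw [h.1, h.2.1, h.2.2]
        rw [hb2] at hkey
        exact hkey
      | _ :: _ :: _ => simp [hb2] at h

end Semantics

end CfsgLib.ThreeTrans.CosetIndex
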