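import Cfsg.Agent.Lib.ThreeTrans.CosetIndex.Core
import Cfsg.Prelude.Def_SporCoxeter

set_option autoImplicit false

/-!
A checked enumeration gives the coset action, the index and the orbits of the subgroup (owner: helper28).
-/

namespace CfsgLib.ThreeTrans.CosetIndex

/-- The data of a checked enumeration. -/
structure Data where
  /-- cosets -/
  n : ℕ
  /-- generators -/
  ng : ℕ
  /-- nodes -/
  nn : ℕ
  /-- facts -/
  nf : ℕ
  /-- facts, eight to a leaf -/
  facts : Tr
  /-- for each letter, the images of the cosets in 16-bit fields -/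
  perms : Tr
  /-- the node of each coset, in 20-bit fields -/
  nodes : ℕ
  /-- the coset of each node, in 16-bit fields -/
  tnode : ℕ
  /-- relators -/
  rels : List (List ℕ)
  /-- subgroup words -/
  subs : List (List ℕ)

namespace Data

variable (D : Data)

/-- The table; letters beyond the generators fix everything. -/
noncomputable def tab (c x : ℕ) : ℕ := cond (Nat.blt x D.ng) (at16 (D.perms.get x) c) c

/-- The node of a coset. -/
noncomputable def nodeOf (c : ℕ) : ℕ := fld D.nodes c

/-- The coset of a node. -/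
noncomputable def cosetOf (j : ℕ) : ℕ := at16 D.tnode j

/-- A defining fact. -/
noncomputable def defOK (i : ℕ) : Bool :=
  let f := fact D.facts i
  Nat.beq (fdst f) (i + 1) && (Nat.ble (fsrc f) i && (Nat.blt (flet f) D.ng &&
    Nat.beq (D.tab (D.cosetOf (fsrc f)) (flet f)) (D.cosetOf (i + 1))))

/-- Tracing a word in the table. -/
noncomputable def trace (c : ℕ) (w : List ℕ) : ℕ :=
  List.rec (motive := fun _ => ℕ → ℕ) (fun c => c) (fun x _ ih c => ih (D.tab c x)) w c

/-- A coset row. -/
noncomputable def rowOK (c : ℕ) : Bool :=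
  Nat.beq (D.cosetOf (D.nodeOf c)) c && (Nat.blt (D.nodeOf c) D.nn &&
    (forallFrom (fun x => Nat.blt (D.tab c x) D.n && Nat.beq (D.tab (D.tab c x) x) c) 0 D.ng &&
      D.rels.all fun w => Nat.beq (D.trace c w) c))

/-- A final chain. -/
noncomputable def finalOK (i p : ℕ) : Bool :=
  let c := i / D.ng
  let x := i % D.ng
  Option.rec false (fun r => Nat.beq r.1 (D.nodeOf (D.tab c x)) && r.2.isEmpty)
    (walkItems D.facts D.nf p 1 (fld p 0) (D.nodeOf c, [x]))

/-- Consecutive final chains. -/
noncomputable def finalsOK (L : List ℕ) (start : ℕ) : Bool :=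
  List.rec (motive := fun _ => ℕ → Bool) (fun _ => true) (fun p _ ih i => D.finalOK i p && ih (i + 1)) L start

theorem finalsOK_elim : ∀ {L : List ℕ} {start : ℕ}, D.finalsOK L start = true →
    ∀ i, start ≤ i → i < start + L.length → ∃ p, D.finalOK i p = true
  | [], start, _, i, h1, h2 => absurd h2 (by simp only [List.length_nil]; omega)
  | p :: L, start, h, i, h1, h2 => by
    have h' : (D.finalOK start p && D.finalsOK L (start + 1)) = true := h
    rw [Bool.and_eq_true] at h'
    rcases eq_or_ne i start with rfl | hne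
    · exact ⟨p, h'.1⟩
    · simp only [List.length_cons] at h2
      exact finalsOK_elim h'.2 i (by omega) (by omega)

/-- The checked conditions. -/
structure Valid : Prop where
  base : 0 < D.n ∧ 0 < D.nn ∧ D.cosetOf 0 = 0 ∧ D.nodeOf 0 = 0 ∧ D.nn - 1 ≤ D.nf ∧ D.ng ≤ eqLetter
  defs : ∀ i < D.nn - 1, D.defOK i = true
  steps : ∀ i, D.nn - 1 ≤ i → i < D.nf → ∃ p, stepOK D.facts D.rels D.subs i p = true
  rows : ∀ c < D.n, D.rowOK c = true
  finals : ∀ i < D.n * D.ng, ∃ p, D.finalOK i p = true
  fixes : D.subs.all (fun w => Nat.beq (D.trace 0 w) 0) = true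

variable {D} (hD : D.Valid)
include hD

theorem tab_row {c : ℕ} (hc : c < D.n) (x : ℕ) : D.tab c x < D.n ∧ D.tab (D.tab c x) x = c := by
  by_cases hx : x < D.ng
  · have h := hD.rows c hc
    simp only [rowOK, Bool.and_eq_true] at h
    have h' := forallFrom_elim h.2.2.1 (Nat.zero_le x) (by omega)
    simp only [Bool.and_eq_true, Nat.beq_eq] at h'
    exact ⟨by simpa using h'.1, h'.2⟩
  · have e : ∀ d, D.tab d x = d := fun d => by
      show cond (Nat.blt x D.ng) _ d = d
      have : Nat.blt x D.ng = false := Bool.eq_false_iff.2 (by simpa using hx)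
      rw [this]; rfl
    rw [e, e]; exact ⟨hc, rfl⟩

/-- The permutation of a letter. -/
noncomputable def perm (x : ℕ) : Equiv.Perm (Fin D.n) where
  toFun c := ⟨D.tab c x, (tab_row hD c.2 x).1⟩
  invFun c := ⟨D.tab c x, (tab_row hD c.2 x).1⟩
  left_inv c := Fin.ext (tab_row hD c.2 x).2
  right_inv c := Fin.ext (tab_row hD c.2 x).2

theorem perm_sq (x : ℕ) : perm hD x * perm hD x = 1 :=
  Equiv.ext fun c => Fin.ext (tab_row hD c.2 x).2

theorem trace_eq (w : List ℕ) (c : Fin D.n) :
    D.trace c w = (((w.reverse.map (perm hD)).prod c : Fin D.n) : ℕ) := by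
  induction w generalizing c with
  | nil => simp [trace]
  | cons x w ih =>
    show D.trace (D.tab c x) w = _
    rw [show D.tab c x = ((perm hD x c : Fin D.n) : ℕ) from rfl, ih, List.reverse_cons, List.map_append,
      List.prod_append]
    simp

theorem perm_rel {w : List ℕ} (hw : w ∈ D.rels) : (w.map (perm hD)).prod = 1 := by
  have h : (w.reverse.map (perm hD)).prod = 1 := Equiv.ext fun c => Fin.ext <| by
    have h := hD.rows c c.2
    simp only [rowOK, Bool.and_eq_true, List.all_eq_true] at h
    rw [← trace_eq hD, Nat.eq_of_beq_eq_true (h.2.2.2 w hw)]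
    rfl
  rwa [prod_reverse_eq_inv _ (perm_sq hD), inv_eq_one] at h

theorem perm_sub {w : List ℕ} (hw : w ∈ D.subs) :
    (w.map (perm hD)).prod ⟨0, hD.base.1⟩ = ⟨0, hD.base.1⟩ := by
  have h := List.all_eq_true.1 hD.fixes w hw
  have h' : (w.reverse.map (perm hD)).prod ⟨0, hD.base.1⟩ = ⟨0, hD.base.1⟩ :=
    Fin.ext ((trace_eq hD w _).symm.trans (Nat.eq_of_beq_eq_true h))
  rw [prod_reverse_eq_inv _ (perm_sq hD)] at h'
  exact (Equiv.Perm.inv_eq_iff_eq.1 h').symm

variable {G : Type*} [Group G] {a : ℕ → G} (hinv : ∀ x, a x * a x = 1) (hbig : ∀ x, D.ng ≤ x → a x = 1)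
  (hgen : Subgroup.closure (Set.range a) = ⊤) {H : Subgroup G}
  (hH : H = Subgroup.closure {g | ∃ w ∈ D.subs, g = (w.map a).prod})
  (hrel : ∀ w ∈ D.rels, (w.map a).prod = 1)

include hinv hbig hgen hH hrel

/-- The coset action agrees with the table. -/
theorem exists_equiv (φ : G →* Equiv.Perm (Fin D.n)) (hφ : ∀ x, φ (a x) = perm hD x) :
    ∃ e : G ⧸ H ≃ Fin D.n, (e ((1 : G) : G ⧸ H) : ℕ) = 0 ∧ ∀ (g : G) (q : G ⧸ H), e (g • q) = φ g (e q) := by
  have he : a eqLetter = 1 := hbig _ hD.base.2.2.2.2.2
  set o : Fin D.n := ⟨0, hD.base.1⟩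
  have hfix : ∀ h ∈ H, φ h o = o := by
    rw [hH]
    intro h hh
    induction hh using Subgroup.closure_induction with
    | mem g hg =>
      obtain ⟨w, hw, rfl⟩ := hg
      rw [map_list_prod, List.map_map, show (φ ∘ a) = perm hD from funext hφ]
      exact perm_sub hD hw
    | one => rw [map_one]; rfl
    | mul g g' _ _ i1 i2 => rw [map_mul, Equiv.Perm.mul_apply, i2, i1]
    | inv g _ i1 => rw [map_inv, Equiv.Perm.inv_eq_iff_eq]; exact i1.symm
  let f : G ⧸ H → Fin D.n := fun q => Quotient.liftOn' q (fun g => φ g o) fun g g' hgg => by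
    rw [QuotientGroup.leftRel_apply] at hgg
    have h := hfix _ hgg
    rw [map_mul, Equiv.Perm.mul_apply, map_inv, Equiv.Perm.inv_eq_iff_eq] at h
    exact h.symm
  have fequiv : ∀ (g : G) (q : G ⧸ H), f (g • q) = φ g (f q) := fun g q => by
    induction q using QuotientGroup.induction_on with
    | _ y => show φ (g * y) o = φ g (φ y o); rw [map_mul, Equiv.Perm.mul_apply]
  let vAux : ℕ → ℕ → G ⧸ H := fun k => Nat.rec (fun _ => ((1 : G) : G ⧸ H))
    (fun _ ih j => if j = 0 then ((1 : G) : G ⧸ H) else
      a (flet (fact D.facts (j - 1))) • ih (fsrc (fact D.facts (j - 1)))) k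
  have vstab : ∀ k j, j ≤ k → j < D.nn → vAux k j = vAux j j := by
    intro k
    induction k using Nat.strong_induction_on with
    | _ k ih =>
      intro j hjk hj
      rcases Nat.eq_zero_or_pos j with rfl | hpos
      · cases k <;> rfl
      rcases hjk.eq_or_lt with rfl | hlt
      · rfl
      have hd := hD.defs (j - 1) (by omega)
      simp only [defOK, Bool.and_eq_true, Nat.ble_eq] at hd
      have hs : fsrc (fact D.facts (j - 1)) ≤ j - 1 := hd.2.1
      obtain ⟨k', rfl⟩ : ∃ k', k = k' + 1 := ⟨k - 1, by omega⟩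
      obtain ⟨j', rfl⟩ : ∃ j', j = j' + 1 := ⟨j - 1, by omega⟩
      show (if j' + 1 = 0 then _ else _) = (if j' + 1 = 0 then _ else _)
      rw [if_neg (by omega), if_neg (by omega)]
      show _ • vAux k' _ = _ • vAux j' _
      rw [ih k' (by omega) _ (by omega) (by omega), ih j' (by omega) _ (by omega) (by omega)]
  let v : ℕ → G ⧸ H := fun j => vAux j j
  have vsucc : ∀ j, j + 1 < D.nn → v (j + 1) = a (flet (fact D.facts j)) • v (fsrc (fact D.facts j)) := by
    intro j hj
    have hd := hD.defs j (by omega)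
    simp only [defOK, Bool.and_eq_true, Nat.ble_eq] at hd
    show (if j + 1 = 0 then _ else _) = _
    rw [if_neg (by omega)]
    simp only [Nat.add_sub_cancel]
    show _ • vAux j _ = _
    rw [vstab j _ hd.2.1 (by omega)]
  have hsub : ∀ w ∈ D.subs, actW a w (v 0) = v 0 := fun w hw => by
    rw [actW_eq, prod_reverse_eq_inv _ hinv]
    show (((w.map a).prod)⁻¹ * 1 : G) = (((1 : G)) : G ⧸ H)
    rw [QuotientGroup.eq]
    simp only [mul_one, inv_inv]
    rw [hH]; exact Subgroup.subset_closure ⟨w, hw, rfl⟩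
  have hrel' : ∀ w ∈ D.rels, ∀ q : G ⧸ H, actW a w q = q := fun w hw q => by
    rw [actW_eq, prod_reverse_eq_inv _ hinv, hrel w hw, inv_one, one_smul]
  have good : ∀ i < D.nf, Good a v (fact D.facts i) := by
    intro i
    induction i using Nat.strong_induction_on with
    | _ i ih =>
      intro hi
      by_cases hdef : i < D.nn - 1
      · have hd := hD.defs i hdef
        simp only [defOK, Bool.and_eq_true, Nat.beq_eq] at hd
        unfold Good
        rw [hd.1, vsucc i (by omega)]
      · obtain ⟨p, hp⟩ := hD.steps i (by omega) hi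
        exact stepOK_sound a hinv he hrel' hsub (fun j hj => ih j hj (by omega)) hp
  have fv : ∀ j < D.nn, (f (v j) : ℕ) = D.cosetOf j := by
    intro j
    induction j using Nat.strong_induction_on with
    | _ j ih =>
      intro hj
      rcases Nat.eq_zero_or_pos j with rfl | hpos
      · rw [hD.base.2.2.1]
        show ((φ 1 o : Fin D.n) : ℕ) = 0
        rw [map_one]; rfl
      obtain ⟨i, rfl⟩ : ∃ i, j = i + 1 := ⟨j - 1, by omega⟩
      have hd := hD.defs i (by omega)
      simp only [defOK, Bool.and_eq_true, Nat.beq_eq, Nat.ble_eq] at hd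
      rw [vsucc i hj, fequiv, hφ, ← hd.2.2.2, ← ih _ (by omega) (by omega)]
      rfl
  have rowFacts : ∀ c < D.n, D.cosetOf (D.nodeOf c) = c ∧ D.nodeOf c < D.nn := fun c hc => by
    have h := hD.rows c hc
    simp only [rowOK, Bool.and_eq_true, Nat.beq_eq] at h
    exact ⟨h.1, by simpa using h.2.1⟩
  let g : Fin D.n → G ⧸ H := fun c => v (D.nodeOf c)
  have fg : ∀ c, f (g c) = c := fun c =>
    Fin.ext ((fv _ (rowFacts c c.2).2).trans (rowFacts c c.2).1)
  have gstep : ∀ x (c : Fin D.n), a x • g c = g (perm hD x c) := fun x c => by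
    by_cases hx : x < D.ng
    · have hi : (c : ℕ) * D.ng + x < D.n * D.ng := by
        have := c.2
        calc (c : ℕ) * D.ng + x < (c + 1) * D.ng := by rw [Nat.succ_mul]; omega
          _ ≤ D.n * D.ng := Nat.mul_le_mul_right _ this
      obtain ⟨p, hp⟩ := hD.finals _ hi
      have hdiv : ((c : ℕ) * D.ng + x) / D.ng = c := by
        rw [Nat.mul_comm, Nat.mul_add_div (by omega), Nat.div_eq_of_lt hx, Nat.add_zero]
      have hmod : ((c : ℕ) * D.ng + x) % D.ng = x := by
        rw [Nat.mul_comm, Nat.mul_add_mod, Nat.mod_eq_of_lt hx]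
      simp only [finalOK, hdiv, hmod] at hp
      cases hw : walkItems D.facts D.nf p 1 (fld p 0) (D.nodeOf c, [x]) with
      | none => rw [hw] at hp; simp at hp
      | some r =>
        rw [hw] at hp
        simp only [Bool.and_eq_true, Nat.beq_eq, List.isEmpty_iff] at hp
        obtain ⟨u, hu, hu'⟩ := walkItems_sound a hinv he good hw
        dsimp only at hu hu'
        rw [hp.2, List.append_nil] at hu
        rw [← hu, hp.1] at hu'
        exact hu'
    · have hp1 : perm hD x c = c := Fin.ext (by
        show cond (Nat.blt x D.ng) _ (c : ℕ) = c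
        have : Nat.blt x D.ng = false := Bool.eq_false_iff.2 (by simpa using hx)
        rw [this]; rfl)
      rw [hp1, hbig x (by omega), one_smul]
  have hall : ∀ (u : G) (c : Fin D.n), ∃ c', u • g c = g c' := by
    intro u
    have hu : u ∈ Subgroup.closure (Set.range a) := by rw [hgen]; exact Subgroup.mem_top u
    induction hu using Subgroup.closure_induction with
    | mem u hu =>
      obtain ⟨x, rfl⟩ := hu
      exact fun c => ⟨_, gstep x c⟩
    | one => exact fun c => ⟨c, one_smul _ _⟩
    | mul u u' _ _ i1 i2 =>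
      intro c
      obtain ⟨c', h'⟩ := i2 c
      obtain ⟨c'', h''⟩ := i1 c'
      exact ⟨c'', by rw [mul_smul, h', h'']⟩
    | inv u _ i1 =>
      intro c
      choose F hF using i1
      have hFi : Function.Injective F := fun c1 c2 e => by
        have := congrArg f (MulAction.injective u ((hF c1).trans ((congrArg g e).trans (hF c2).symm)))
        rwa [fg, fg] at this
      obtain ⟨c0, rfl⟩ := (Finite.injective_iff_surjective.1 hFi) c
      exact ⟨c0, by rw [← hF c0, inv_smul_smul]⟩
  have hg0 : g o = ((1 : G) : G ⧸ H) := by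
    show v (D.nodeOf 0) = _
    rw [hD.base.2.2.2.1]
    rfl
  have gf : ∀ q, g (f q) = q := fun q => by
    induction q using QuotientGroup.induction_on with
    | _ y =>
      obtain ⟨c, hc⟩ := hall y o
      rw [hg0, MulAction.Quotient.smul_coe, smul_eq_mul, mul_one] at hc
      rw [hc, fg]
  refine ⟨⟨f, g, gf, fg⟩, ?_, fequiv⟩
  show ((φ 1 o : Fin D.n) : ℕ) = 0
  rw [map_one]
  rfl

theorem index_eq (φ : G →* Equiv.Perm (Fin D.n)) (hφ : ∀ x, φ (a x) = perm hD x) : H.index = D.n := by
  obtain ⟨e, -⟩ := exists_equiv hD hinv hbig hgen hH hrel φ hφ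
  rw [Subgroup.index, Nat.card_congr e, Nat.card_eq_fintype_card, Fintype.card_fin]

end Data

end CfsgLib.ThreeTrans.CosetIndex
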